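import Cfsg.Agent.H892.EP.Rows
import Cfsg.Agent.H436.MonRealAll
import Cfsg.Agent.H816.IMM
import Cfsg.Agent.MFive.Row

/-!
# S4929: the Monster, `p = 17, 19, 29, 41` (helper585)
-/

set_option autoImplicit false

open Cfsg Cfsg.Agent.MonsterX Cfsg.Agent.H892.EP Subgroup

namespace Cfsg.Agent.H585.EP

universe u

/-- the group of the model -/
abbrev MG : Type := ↥InstData.M.G

instance finite_MG : Finite MG := MFive.Row.finite_model

theorem card_MG : Nat.card MG = 808017424794512875886459904961710757005754368000000000 :=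
  Cfsg.Agent.MonsterP.EquivOf.isM_model.2

/-- cyclic Sylow subgroups and a real element -/
theorem evAt_of_real {G : Type u} [Group G] [Finite G] {p : ℕ} [hp : Fact p.Prime] (hp2 : p ≠ 2)
    (hsq : ¬ p ^ 2 ∣ Nat.card G) (h : ∃ x : G, p ∣ orderOf x ∧ IsConj x x⁻¹) : EvAt p G := by
  obtain ⟨x, hx, hr⟩ := h
  have h0 : 0 < orderOf x := orderOf_pos x
  have ho : orderOf (x ^ (orderOf x / p)) = p := by
    rw [orderOf_pow_of_dvd (Nat.div_pos (Nat.le_of_dvd h0 hx) hp.out.pos).ne' (Nat.div_dvd_of_dvd hx),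
      Nat.div_div_self hx h0.ne']
  refine evAt_of_real_cyclic hp2 (fun P => ?_) ho ?_
  · obtain ⟨n, hn⟩ := IsPGroup.iff_card.1 P.2
    have hn1 : n ≤ 1 := by
      by_contra h1
      exact hsq ((pow_dvd_pow p (by omega : 2 ≤ n)).trans (hn ▸ Subgroup.card_subgroup_dvd_card (P : Subgroup G)))
    rcases (show n = 0 ∨ n = 1 by omega) with rfl | rfl
    · rw [pow_zero] at hn
      have : Subsingleton ↥(P : Subgroup G) := (Nat.card_eq_one_iff_unique.1 hn).1
      infer_instance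
    · rw [pow_one] at hn
      exact isCyclic_of_prime_card hn
  · obtain ⟨c, hc⟩ := isConj_iff.1 hr
    refine isConj_iff.2 ⟨c, ?_⟩
    rw [← conj_pow, hc, inv_pow]

theorem ev_cyc {p : ℕ} (hp : p = 17 ∨ p = 19 ∨ p = 29 ∨ p = 41) : EvAt p MG := by
  rcases hp with rfl | rfl | rfl | rfl
  · have : Fact (Nat.Prime 17) := ⟨by norm_num⟩
    exact evAt_of_real (by norm_num) (by rw [card_MG]; norm_num) H436.MonRealAll.seventeen
  · have : Fact (Nat.Prime 19) := ⟨by norm_num⟩
    exact evAt_of_real (by norm_num) (by rw [card_MG]; norm_num) H436.MonRealAll.nineteen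
  · have : Fact (Nat.Prime 29) := ⟨by norm_num⟩
    exact evAt_of_real (by norm_num) (by rw [card_MG]; norm_num) H436.MonRealAll.twentynine
  · have : Fact (Nat.Prime 41) := ⟨by norm_num⟩
    exact evAt_of_real (by norm_num) (by rw [card_MG]; norm_num) H436.MonRealAll.fortyone

/-- transport to the groups isomorphic to the Monster -/
theorem evAt_of_model {p : ℕ} [Fact p.Prime] (h : EvAt p MG) {K : Type u} [Group K] [Finite K] (hK : Spor.IsoM K) :
    EvAt p K := by
  obtain ⟨e⟩ := H816.IMM.exists_equiv hK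
  exact h.tr e.symm

/-- the even degrees -/
theorem deg_a : ∃ χ : MG → ℂ, IsIrrCharacter MG χ ∧ χ 1 = (842609326 : ℕ) := by
  obtain ⟨χ, h1, h2⟩ := H816.IMM.exists_chi_842609326 (S := MG) (by
    obtain ⟨e⟩ := Cfsg.Agent.MonsterP.Equiv.equiv
    exact ⟨e.symm⟩)
  exact ⟨χ, h1, by rw [h2]; norm_num⟩

theorem deg_b : ∃ χ : MG → ℂ, IsIrrCharacter MG χ ∧ χ 1 = (18538750076 : ℕ) := by
  obtain ⟨χ, h1, h2⟩ := H816.IMM.exists_chi_18538750076 (S := MG) (by
    obtain ⟨e⟩ := Cfsg.Agent.MonsterP.Equiv.equiv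
    exact ⟨e.symm⟩)
  exact ⟨χ, h1, by rw [h2]; norm_num⟩

end Cfsg.Agent.H585.EP
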