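import Cfsg.Agent.H585.EP.Cent
import Cfsg.Agent.H585.EP.MCyc
import Cfsg.Agent.H568.SC.Mon
import Cfsg.Agent.H58.Mon.Seventy
import Cfsg.Agent.H715.Mon.Exact
import Cfsg.Agent.H715.Mon.Grp
import Cfsg.Agent.H626.MRow.TwentyNine
import Cfsg.Agent.OrdDiv.Table

/-!
# S4929: the Monster, `p = 59, 71` (helper585)
-/

set_option autoImplicit false
set_option maxRecDepth 100000

open Cfsg Cfsg.Agent.Characters.Core Cfsg.Agent.H892.EP Subgroup

namespace Cfsg.Agent.H585.EP

universe u v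

/-- a self-centralizing element of order `p` -/
theorem evAt_of_self {G : Type u} [Group G] [Finite G] {p : ℕ} [hp : Fact p.Prime]
    {x : G} (hx : orderOf x = p) (hC : Nat.card ↥(centralizer ({x} : Set G)) = p)
    {d : ℕ} (hd : ∃ χ : G → ℂ, IsIrrCharacter G χ ∧ χ 1 = d) (h2 : 2 ∣ d) (hpd : ¬ p ∣ d) : EvAt p G := by
  have hpg : IsPGroup p (zpowers x) := IsPGroup.of_card (n := 1) (by rw [Nat.card_zpowers, hx, pow_one])
  obtain ⟨P, hP⟩ := hpg.exists_le_sylow
  refine evAt_of_sylow P (fun y hy hyo hyp => ?_) hd h2 hpd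
  have h1 : y ∈ centralizer ({x} : Set G) := mem_centralizer_singleton_iff.2 (hy x (hP (mem_zpowers x))).symm
  have h2 : orderOf y ∣ p := by
    rw [← hC, ← Subgroup.orderOf_mk y h1]
    exact orderOf_dvd_natCard _
  exact hyp ((Nat.prime_dvd_prime_iff_eq hyo hp.out).1 h2)

theorem exists_order (p : ℕ) [hp : Fact p.Prime] (h : p ∣ Nat.card MG) : ∃ x : MG, orderOf x = p :=
  exists_prime_orderOf_dvd_card' p h

/-- **The Monster, `p = 59`.** -/
theorem ev_59 (hK : Cfsg.Agent.H995.CopEngine.AllKnown.{0}) : EvAt 59 MG := by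
  have : Fact (Nat.Prime 59) := ⟨by norm_num⟩
  obtain ⟨x, hx⟩ := exists_order 59 (by rw [card_MG]; norm_num)
  refine evAt_of_self hx ?_ deg_b (by norm_num) (by norm_num)
  exact H568.SC.Mon.sc_model hK x hx

theorem base (hK : Cfsg.Agent.H995.CopEngine.AllKnown.{0}) : Cfsg.Agent.H940.Eng.Base :=
  ⟨OrdDiv.table, fun S _ _ _ => hK S⟩

open Cfsg.Agent.H241.NH in
theorem not_71_29 {y : MG} (hy : orderOf y = 29) : ¬ 71 ∣ Nat.card (centralizer ({y} : Set MG)) := by
  have h29 : Fact (Nat.Prime 29) := ⟨by norm_num⟩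
  obtain ⟨x, u, s, hx, hu, hs4, hsu, hself⟩ := H626.MRow.TwentyNine.exists_data
  have h1 : ¬ 71 ∣ Nat.card (centralizer ({u} : Set MG)) :=
    H626.MRow.Loc.not_dvd_cent' (by norm_num) (by norm_num) hx hu hself (H626.MRow.TwentyNine.odd_cent hu)
      (by norm_num) (by norm_num) (by norm_num) (by norm_num) (by rw [card_MG]; norm_num)
  -- all elements of order 29 are conjugate to powers
  have hs : ∀ v : MG, orderOf v = 29 → ∃ P : Sylow 29 MG, (P : Subgroup MG) = zpowers v := by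
    intro v hv
    have hpg : IsPGroup 29 (zpowers v) := IsPGroup.of_card (n := 1) (by rw [Nat.card_zpowers, hv, pow_one])
    obtain ⟨P, hP⟩ := hpg.exists_le_sylow
    refine ⟨P, (Subgroup.eq_of_le_of_card_ge hP ?_).symm⟩
    obtain ⟨n, hn⟩ := IsPGroup.iff_card.1 P.2
    rw [hn, Nat.card_zpowers, hv]
    have hn1 : n ≤ 1 := by
      by_contra h
      have h2 : 29 ^ 2 ∣ Nat.card MG :=
        (pow_dvd_pow 29 (by omega : 2 ≤ n)).trans (hn ▸ Subgroup.card_subgroup_dvd_card (P : Subgroup MG))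
      rw [card_MG] at h2
      norm_num at h2
    calc 29 ^ n ≤ 29 ^ 1 := Nat.pow_le_pow_right (by norm_num) hn1
      _ = 29 := pow_one 29
  obtain ⟨P, hP⟩ := hs y hy
  obtain ⟨Q, hQ⟩ := hs u hu
  obtain ⟨g, hg⟩ := MulAction.exists_smul_eq MG P Q
  have h3 : g * y * g⁻¹ ∈ zpowers u := by
    rw [← hQ, ← hg]
    exact Subgroup.smul_mem_pointwise_smul y (MulAut.conj g) (P : Subgroup MG) (by rw [hP]; exact mem_zpowers y)
  obtain ⟨i, hi⟩ := mem_powers_iff_mem_zpowers.2 h3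
  obtain ⟨e⟩ := MFive.exists_cent_equiv (p := 29) (by norm_num) hy hu (k := g) (i := i) hi.symm
  rwa [← Nat.card_congr e.toEquiv]

/-- **The Monster, `p = 71`.** -/
theorem ev_71 (hK : Cfsg.Agent.H995.CopEngine.AllKnown.{0}) : EvAt 71 MG := by
  have : Fact (Nat.Prime 71) := ⟨by norm_num⟩
  obtain ⟨x, hx⟩ := exists_order 71 (by rw [card_MG]; norm_num)
  refine evAt_of_self hx ?_ deg_a (by norm_num) (by norm_num)
  refine (H58.Mon71.norm71 hK (fun y hy => ?_) (fun y hy => not_71_29 hy) hx).1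
  have h1 := H715.Mon.Exact.card23 (H715.Mon.Grp.sThree (base hK)) (y := y) hy
  intro h
  have h2 : 71 ∣ 24 * 23 := h.trans (dvd_of_eq h1)
  norm_num at h2

end Cfsg.Agent.H585.EP
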