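import Cfsg.Agent.H585.EP.MThree
import Cfsg.Agent.H573.Spor.MSeven
import Cfsg.Agent.H573.Spor.Lift
import Cfsg.Agent.H394.PBHe
import Cfsg.Agent.SigZeroHN.Main
import Cfsg.Agent.KFacts.HN.Classes
import Cfsg.Agent.H492.IMHe
import Cfsg.Agent.H513.HNZ
import Cfsg.Agent.H455.RecBEleven
import Cfsg.Agent.H715.Fpr.MathData

/-!
# S4929: the Monster, `p = 5, 7, 11` (helper585)
-/

set_option autoImplicit false
set_option maxRecDepth 100000

open Cfsg Cfsg.Agent.Characters.Core Cfsg.Agent.H892.EP Subgroup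
open Cfsg.Agent.LThreeMB (XX Zx self)

namespace Cfsg.Agent.H585.EP

universe u v

section
open Cfsg.Spor.He Cfsg.Agent.SporadicB.HePerm Cfsg.Agent.FixBN.HeStab Cfsg.Agent.H394
open Cfsg.Agent.H492.IMHeCnt Cfsg.Agent.H492.IMHeDat Cfsg.Agent.H492.IMTools

theorem sylC_he : SylC 7 Cfsg.Spor.He := by
  have : Finite Cfsg.Spor.He := Nat.finite_of_card_ne_zero (by rw [PBHe.card_he]; norm_num)
  have h7 : Fact (Nat.Prime 7) := ⟨by norm_num⟩
  exact SylC.of_pair H492.IMHe.o7 H492.IMHe.oy7 (comm_of_chk (by decide +kernel))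
    (H492.IMHe.pair (p := 7) XB7 YB7 _ H492.IMHe.o7 H492.IMHe.oy7 (by decide +kernel) (by decide +kernel)
      (by norm_num) qB7).2

end

/-- **The Monster, `p = 7`.** -/
theorem ev_seven : EvAt 7 MG := by
  have : Fact (Nat.Prime 7) := ⟨by norm_num⟩
  obtain ⟨x, hx, ⟨e⟩⟩ := H573.Spor.Monster.exists_he
  have : Finite Cfsg.Spor.He := Nat.finite_of_card_ne_zero (by rw [H394.PBHe.card_he]; norm_num)
  exact evAt_of_XX hx e sylC_he deg_a (by norm_num) (by norm_num)

theorem sylC_hn : SylC 5 Cfsg.Spor.HN := by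
  have h5 : Fact (Nat.Prime 5) := ⟨Nat.prime_five⟩
  have hfin : Finite Cfsg.Spor.HN := Nat.finite_of_card_ne_zero (by rw [Cfsg.Agent.KFacts.HN.Classes.card_HN]; norm_num)
  obtain ⟨z, hz, h1, h3, hB, -, -⟩ := H513.HNZ.exists_z'
  obtain ⟨Q⟩ : Nonempty (Sylow 5 Cfsg.Spor.HN) := inferInstance
  have hQ : 5 ^ 6 ∣ Nat.card (Q : Subgroup Cfsg.Spor.HN) := by
    rw [Sylow.card_eq_multiplicity]
    refine pow_dvd_pow 5 ((Nat.prime_five.pow_dvd_iff_le_factorization Nat.card_pos.ne').1 ?_)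
    rw [Cfsg.Agent.KFacts.HN.Classes.card_HN]
    norm_num
  refine ⟨Q, fun y hy hyo hyp => ?_⟩
  obtain ⟨g, hg⟩ := hB (Q : Subgroup Cfsg.Spor.HN) Q.2 ((pow_dvd_pow 5 (by norm_num)).trans hQ)
  have h4 := hy _ hg
  -- `y` commutes with a conjugate of `z`
  have hd : orderOf y ∣ Nat.card ↥(centralizer ({z} : Set Cfsg.Spor.HN)) := by
    have h5 : g⁻¹ * y * g ∈ centralizer ({z} : Set Cfsg.Spor.HN) := by
      rw [mem_centralizer_singleton_iff]
      calc g⁻¹ * y * g * z = g⁻¹ * (y * (g * z * g⁻¹)) * g := by group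
        _ = g⁻¹ * (g * z * g⁻¹ * y) * g := by rw [h4]
        _ = z * (g⁻¹ * y * g) := by group
    have h6 : orderOf (g⁻¹ * y * g) = orderOf y := by
      have := MulEquiv.orderOf_eq (MulAut.conj g⁻¹) y
      rwa [MulAut.conj_apply, inv_inv] at this
    rw [← h6, ← Subgroup.orderOf_mk _ h5]
    exact orderOf_dvd_natCard _
  have hc : 5 ^ 6 ∣ Nat.card ↥(centralizer ({y} : Set Cfsg.Spor.HN)) := by
    refine hQ.trans (Subgroup.card_dvd_of_le fun q hq => ?_)
    rw [mem_centralizer_singleton_iff]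
    exact hy q hq
  have hG : orderOf y ∣ 273030912000000 := by
    rw [← Cfsg.Agent.KFacts.HN.Classes.card_HN]
    exact orderOf_dvd_natCard y
  by_cases h2 : orderOf y = 2
  · rcases SigZeroHN.card_centralizer_cases h2 with ⟨-, h⟩ | ⟨-, h⟩
    · rw [h] at hc
      norm_num at hc
    · rw [h] at hc
      norm_num at hc
  by_cases h3' : orderOf y = 3
  · rw [h3'] at hd
    exact h3 hd
  refine h1 _ hyo ?_ ?_ hd
  · intro h
    rw [show (3686400 : ℕ) = 2 ^ 14 * 3 ^ 2 * 5 ^ 2 by norm_num] at h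
    rcases hyo.dvd_mul.1 h with h | h
    · rcases hyo.dvd_mul.1 h with h | h
      · exact h2 ((Nat.prime_dvd_prime_iff_eq hyo Nat.prime_two).1 (hyo.dvd_of_dvd_pow h))
      · exact h3' ((Nat.prime_dvd_prime_iff_eq hyo Nat.prime_three).1 (hyo.dvd_of_dvd_pow h))
    · exact hyp ((Nat.prime_dvd_prime_iff_eq hyo Nat.prime_five).1 (hyo.dvd_of_dvd_pow h))
  · intro h
    rw [show (273030912000000 : ℕ) = 2 ^ 14 * 3 ^ 6 * 5 ^ 6 * (7 * (11 * 19)) by norm_num] at hG h
    have key : ∀ {r k : ℕ}, r.Prime → orderOf y ∣ r ^ k → orderOf y = r := fun {r k} hr h =>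
      (Nat.prime_dvd_prime_iff_eq hyo hr).1 (hyo.dvd_of_dvd_pow h)
    rcases hyo.dvd_mul.1 hG with h' | h'
    · rcases hyo.dvd_mul.1 h' with h' | h'
      · rcases hyo.dvd_mul.1 h' with h' | h'
        · exact h2 (key Nat.prime_two h')
        · exact h3' (key Nat.prime_three h')
      · exact hyp (key Nat.prime_five h')
    · rcases hyo.dvd_mul.1 h' with h' | h'
      · rw [(Nat.prime_dvd_prime_iff_eq hyo (by norm_num)).1 h'] at h
        norm_num at h
      · rcases hyo.dvd_mul.1 h' with h' | h'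
        · rw [(Nat.prime_dvd_prime_iff_eq hyo (by norm_num)).1 h'] at h
          norm_num at h
        · rw [(Nat.prime_dvd_prime_iff_eq hyo (by norm_num)).1 h'] at h
          norm_num at h

/-- **The Monster, `p = 5`.** -/
theorem ev_five : EvAt 5 MG := by
  have : Fact (Nat.Prime 5) := ⟨by norm_num⟩
  obtain ⟨x, hx, ⟨e⟩⟩ := H573.Spor.Monster.exists_five
  have : Finite Cfsg.Spor.HN := Nat.finite_of_card_ne_zero (by rw [Cfsg.Agent.KFacts.HN.Classes.card_HN]; norm_num)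
  exact evAt_of_XX hx e sylC_hn deg_a (by norm_num) (by norm_num)

theorem sylC_m12 : SylC 11 Cfsg.Spor.M12 := by
  have h11 : Fact (Nat.Prime 11) := ⟨by norm_num⟩
  have hc : Nat.card Cfsg.Spor.M12 = 95040 := MTwelveType.SylowModel.card_M12
  have hfin : Finite Cfsg.Spor.M12 := Nat.finite_of_card_ne_zero (by rw [hc]; norm_num)
  refine SylC.of_card (n := 1) (by rw [hc]; norm_num) fun y hy hne h => ?_
  rw [pow_one] at h
  obtain ⟨u, hu⟩ := exists_prime_orderOf_dvd_card' (G := ↥(centralizer ({y} : Set Cfsg.Spor.M12))) 11 h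
  have hu' : orderOf (u : Cfsg.Spor.M12) = 11 := by rw [Subgroup.orderOf_coe, hu]
  have h1 := (H715.Fpr.MathData.cn12_11 (R := zpowers (u : Cfsg.Spor.M12)) (by rw [Nat.card_zpowers, hu'])).1
  have h2 : y ∈ centralizer ((zpowers (u : Cfsg.Spor.M12) : Subgroup Cfsg.Spor.M12) : Set Cfsg.Spor.M12) := by
    rw [mem_centralizer_iff]
    rintro _ ⟨i, rfl⟩
    have h3 : Commute (u : Cfsg.Spor.M12) y := mem_centralizer_singleton_iff.1 u.2
    exact (h3.zpow_left i).eq
  have h3 : orderOf y ∣ 11 := by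
    rw [← h1, ← Subgroup.orderOf_mk y h2]
    exact orderOf_dvd_natCard _
  exact hne ((Nat.prime_dvd_prime_iff_eq hy (by norm_num)).1 h3)

/-- **The Monster, `p = 11`.** -/
theorem ev_eleven : EvAt 11 MG := by
  have : Fact (Nat.Prime 11) := ⟨by norm_num⟩
  have hc : Nat.card Cfsg.Spor.M12 = 95040 := MTwelveType.SylowModel.card_M12
  have hfin : Finite Cfsg.Spor.M12 := Nat.finite_of_card_ne_zero (by rw [hc]; norm_num)
  obtain ⟨x, hz, F, hx, hF, hk, -⟩ := H455.RecB.exists_base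
  have hx11 : x ^ 11 = 1 := by rw [← hx, pow_orderOf_eq_one]
  refine evAt_of_cent (x := x) ⟨1, by rw [pow_one, hx11]⟩ F hF ?_ sylC_m12 deg_a (by norm_num) (by norm_num)
  intro g hg
  obtain ⟨i, hi⟩ := mem_zpowers_iff.1 ((hk g).1 hg)
  refine ⟨1, Subtype.ext ?_⟩
  show (g : MG) ^ 11 ^ 1 = 1
  rw [← hi, pow_one, ← zpow_natCast, ← zpow_mul, mul_comm, zpow_mul, zpow_natCast, hx11, one_zpow]

end Cfsg.Agent.H585.EP
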