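import Cfsg.Agent.H609.Inv.MThirC
import Cfsg.Agent.H465.PiBSFour

/-!
# S4929: the Monster, `p = 13`: the centralizer of a Sylow subgroup (helper585)

* `exists_ev` : `R` a Sylow 13-subgroup; if a prime `r` divides `|C(R)|`, then an element of order `r` of `C(R)` commutes
  with a conjugate of `z`.
-/

set_option autoImplicit false
set_option maxRecDepth 100000
set_option linter.unusedSectionVars false

namespace Cfsg.Agent.H585.EP.Thr

open Subgroup Cfsg Cfsg.Agent.H609.Inv.Thirteen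
open Cfsg.Agent.H131.T5M13 (D exists_syl exists_conj_le orderOf_conj' mem_normalizer_of)
open Cfsg.Agent.H465.SporB (exists_four exists_comm_four)

universe u

section abs

variable {G : Type u} [Group G] [Finite G] {x z t : G} {Q R W : Subgroup G}

/-- an element normalising `R` which acts on `⟨x⟩` as the fifth power -/
theorem exists_c (h : D x z t Q) (hr : RW x Q R W) : ∃ c : G, c * x * c⁻¹ = x ^ 5 ∧ ∀ r ∈ R, c * r * c⁻¹ ∈ R := by
  have h13 : Fact (Nat.Prime 13) := ⟨by norm_num⟩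
  obtain ⟨c, hc⟩ := h.four
  have hx13 : x ^ 13 = 1 := by rw [← h.hyp.hx, pow_orderOf_eq_one]
  let C : Subgroup G := centralizer ({x} : Set G)
  have hRC : R ≤ C := fun r hrR => mem_centralizer_singleton_iff.2 (hr.cen r hrR)
  have hx40 : (x ^ 5) ^ 8 = x := by
    calc (x ^ 5) ^ 8 = (x ^ 13) ^ 3 * x := by group
      _ = x := by rw [hx13, one_pow, one_mul]
  have hcR : ∀ r ∈ R, c * r * c⁻¹ ∈ C := by
    intro r hrR
    have h1 : Commute (c * r * c⁻¹) (x ^ 5) := by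
      show c * r * c⁻¹ * x ^ 5 = x ^ 5 * (c * r * c⁻¹)
      rw [← hc]
      calc c * r * c⁻¹ * (c * x * c⁻¹) = c * (r * x) * c⁻¹ := by group
        _ = c * (x * r) * c⁻¹ := by rw [hr.cen r hrR]
        _ = _ := by group
    have h2 := h1.pow_right 8
    rw [hx40] at h2
    exact mem_centralizer_singleton_iff.2 h2.eq
  have hcard : Nat.card ↥(R.subgroupOf C) = 13 ^ 3 := by
    rw [← hr.card]
    exact Nat.card_congr (Subgroup.subgroupOfEquivOfLe hRC).toEquiv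
  have h4 : ¬ 13 ^ 4 ∣ Nat.card ↥C := fun h5 => h.hyp.h4 (h5.trans (Subgroup.card_subgroup_dvd_card C))
  have hP : IsPGroup 13 ↥((R.map (MulAut.conj c).toMonoidHom).subgroupOf C) := by
    have h1 : IsPGroup 13 ↥R := IsPGroup.of_card hr.card
    exact (h1.map _).comap_of_injective C.subtype C.subtype_injective
  obtain ⟨k, hk⟩ := exists_conj_le hcard h4 hP
  refine ⟨(k : G) * c, ?_, ?_⟩
  · calc (k : G) * c * x * ((k : G) * c)⁻¹ = k * (c * x * c⁻¹) * (k : G)⁻¹ := by group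
      _ = k * x ^ 5 * (k : G)⁻¹ := by rw [hc]
      _ = x ^ 5 := by
        have h1 : Commute (k : G) x := mem_centralizer_singleton_iff.1 k.2
        rw [(h1.pow_right 5).eq, mul_inv_cancel_right]
  · intro r hrR
    have h1 := hk ⟨c * r * c⁻¹, hcR r hrR⟩ (mem_subgroupOf.2 ⟨r, hrR, rfl⟩)
    have h2 := mem_subgroupOf.1 h1
    have e : (k : G) * c * r * ((k : G) * c)⁻¹ = k * (c * r * c⁻¹) * (k : G)⁻¹ := by group
    rw [e]
    exact h2

theorem exists_ev (h : D x z t Q) (hr : RW x Q R W) {r : ℕ} (hrp : r.Prime)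
    (hd : r ∣ Nat.card ↥(centralizer (R : Set G))) :
    ∃ y w : G, orderOf y = r ∧ (∀ a ∈ R, a * y = y * a) ∧ IsConj z w ∧ w * y = y * w := by
  classical
  have h13 : Fact (Nat.Prime 13) := ⟨by norm_num⟩
  have h2 : Fact (Nat.Prime 2) := ⟨Nat.prime_two⟩
  have hx13 : x ^ 13 = 1 := by rw [← h.hyp.hx, pow_orderOf_eq_one]
  have hodd : Odd (Nat.card ↥(centralizer (R : Set G))) := by
    rw [← Nat.not_even_iff_odd, even_iff_two_dvd]
    intro h3
    obtain ⟨u, hu⟩ := exists_prime_orderOf_dvd_card' (G := ↥(centralizer (R : Set G))) 2 h3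
    refine hr.no_cent h (u := (u : G)) (by rw [Subgroup.orderOf_coe, hu]) fun r hrR => ?_
    exact (mem_centralizer_iff.1 u.2 r hrR).symm
  have hnx : ∀ g : G, g * x * g⁻¹ ∈ zpowers x → g ∈ normalizer ((zpowers x : Subgroup G) : Set G) := by
    intro g hg
    refine mem_normalizer_of fun c hc => ?_
    obtain ⟨i, rfl⟩ := mem_zpowers_iff.1 hc
    rw [← conj_zpow]
    exact zpow_mem hg i
  -- the group `M1`
  let M1 : Subgroup G := normalizer ((zpowers x : Subgroup G) : Set G) ⊓ normalizer (R : Set G)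
  have hCM : centralizer (R : Set G) ≤ M1 := by
    intro g hg
    have hgR : ∀ a ∈ R, g * a * g⁻¹ = a := fun a ha => by
      rw [← mem_centralizer_iff.1 hg a ha, mul_inv_cancel_right]
    refine mem_inf.2 ⟨hnx g ?_, mem_normalizer_of fun a ha => ?_⟩
    · rw [hgR x hr.mem]
      exact mem_zpowers x
    · rw [hgR a ha]
      exact ha
  have hxM : x ∈ M1 := by
    refine mem_inf.2 ⟨le_normalizer (mem_zpowers x), ?_⟩
    exact le_normalizer hr.mem
  let x' : ↥M1 := ⟨x, hxM⟩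
  have hxn : (zpowers x').Normal := by
    refine ⟨fun c hc g => ?_⟩
    obtain ⟨i, rfl⟩ := mem_zpowers_iff.1 hc
    obtain ⟨j, hj⟩ := mem_zpowers_iff.1 ((mem_normalizer_iff.1 (mem_inf.1 g.2).1 (x ^ i)).1 (zpow_mem (mem_zpowers x) i))
    exact mem_zpowers_iff.2 ⟨j, Subtype.ext (by
      show x ^ j = (g : G) * x ^ i * (g : G)⁻¹
      exact hj)⟩
  -- the group `N = C(R)`
  let N : Subgroup ↥M1 := (centralizer (R : Set G)).subgroupOf M1
  have hNn : N.Normal := by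
    refine ⟨fun n hn g => ?_⟩
    rw [mem_subgroupOf, mem_centralizer_iff] at hn ⊢
    intro a ha
    have h3 : (g : G)⁻¹ * a * g ∈ R := (mem_normalizer_iff''.1 (mem_inf.1 g.2).2 a).1 ha
    have h4 := hn _ h3
    show a * ((g : G) * n * (g : G)⁻¹) = (g : G) * n * (g : G)⁻¹ * a
    calc a * ((g : G) * n * (g : G)⁻¹) = g * ((g : G)⁻¹ * a * g * n) * (g : G)⁻¹ := by group
      _ = g * (n * ((g : G)⁻¹ * a * g)) * (g : G)⁻¹ := by rw [h4]
      _ = _ := by group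
  have hNc : Nat.card ↥N = Nat.card ↥(centralizer (R : Set G)) :=
    Nat.card_congr (Subgroup.subgroupOfEquivOfLe hCM).toEquiv
  -- the element `c`
  obtain ⟨c, hc, hcR⟩ := exists_c h hr
  have hcM : c ∈ M1 := by
    refine mem_inf.2 ⟨hnx c ?_, mem_normalizer_of hcR⟩
    rw [hc]
    exact pow_mem (mem_zpowers x) 5
  obtain ⟨k, m, hmo, hkm⟩ := Nat.exists_eq_two_pow_mul_odd (orderOf_pos c).ne'
  have hcp : ∀ n : ℕ, c ^ n * x * (c ^ n)⁻¹ = x ^ (5 ^ n) := by
    intro n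
    induction n with
    | zero => rw [pow_zero, pow_zero, pow_one, one_mul, inv_one, mul_one]
    | succ n ih =>
      calc c ^ (n + 1) * x * (c ^ (n + 1))⁻¹ = c * (c ^ n * x * (c ^ n)⁻¹) * c⁻¹ := by
            rw [pow_succ' c n]; group
        _ = (c * x * c⁻¹) ^ 5 ^ n := by rw [ih, conj_pow]
        _ = x ^ (5 ^ (n + 1)) := by rw [hc, ← pow_mul, pow_succ' 5 n]
  let c2 : ↥M1 := ⟨c ^ m, pow_mem hcM m⟩
  have hc2 : IsPGroup 2 ↥(zpowers c2) := by
    refine IsPGroup.of_card (n := k) ?_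
    rw [Nat.card_zpowers, ← Subgroup.orderOf_coe]
    show orderOf (c ^ m) = 2 ^ k
    rw [orderOf_pow_of_dvd hmo.pos.ne' (hkm ▸ dvd_mul_left m (2 ^ k)), hkm, Nat.mul_div_cancel _ hmo.pos]
  obtain ⟨W, hW⟩ := hc2.exists_le_sylow
  -- `W` is not abelian
  have hQM : Q ≤ M1 := by
    intro q hq
    refine mem_inf.2 ⟨hnx q ?_, mem_normalizer_of (hr.qr q hq)⟩
    rw [h.hyp.qx q hq, mul_inv_cancel_right]
    exact mem_zpowers x
  have hQp : IsPGroup 2 ↥(Q.subgroupOf M1) := h.hyp.q2.comap_of_injective M1.subtype M1.subtype_injective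
  obtain ⟨W', hW'⟩ := hQp.exists_le_sylow
  obtain ⟨g, hg⟩ := MulAction.exists_smul_eq ↥M1 W' W
  have hconj : ∀ q ∈ (W' : Subgroup ↥M1), g * q * g⁻¹ ∈ (W : Subgroup ↥M1) := by
    intro q hq
    rw [← hg]
    exact Subgroup.smul_mem_pointwise_smul q (MulAut.conj g) _ hq
  have hnc : ∃ a b : ↥(W : Subgroup ↥M1), a * b ≠ b * a := by
    obtain ⟨a, ha, b, hb, hab⟩ := h.hyp.nc
    have ha' := hconj ⟨a, hQM ha⟩ (hW' (mem_subgroupOf.2 ha))
    have hb' := hconj ⟨b, hQM hb⟩ (hW' (mem_subgroupOf.2 hb))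
    refine ⟨⟨_, ha'⟩, ⟨_, hb'⟩, fun heq => hab ?_⟩
    have h1 : g * (⟨a, hQM ha⟩ : ↥M1) * g⁻¹ * (g * (⟨b, hQM hb⟩ : ↥M1) * g⁻¹) =
      g * (⟨b, hQM hb⟩ : ↥M1) * g⁻¹ * (g * (⟨a, hQM ha⟩ : ↥M1) * g⁻¹) := congrArg Subtype.val heq
    have h2 : (⟨a, hQM ha⟩ : ↥M1) * ⟨b, hQM hb⟩ = ⟨b, hQM hb⟩ * ⟨a, hQM ha⟩ := by
      have h3 : g * ((⟨a, hQM ha⟩ : ↥M1) * ⟨b, hQM hb⟩) * g⁻¹ = g * ((⟨b, hQM hb⟩ : ↥M1) * ⟨a, hQM ha⟩) * g⁻¹ := by
        calc _ = g * (⟨a, hQM ha⟩ : ↥M1) * g⁻¹ * (g * (⟨b, hQM hb⟩ : ↥M1) * g⁻¹) := by group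
          _ = g * (⟨b, hQM hb⟩ : ↥M1) * g⁻¹ * (g * (⟨a, hQM ha⟩ : ↥M1) * g⁻¹) := h1
          _ = _ := by group
      exact mul_left_cancel (mul_right_cancel h3)
    exact congrArg Subtype.val h2
  -- the homomorphism
  have := hxn
  let f : ↥M1 →* MulAut ↥(zpowers x') := MulAut.conjNormal
  have hAc : ∀ a b : MulAut ↥(zpowers x'), a * b = b * a := by
    intro a b
    apply (IsCyclic.mulAutMulEquiv ↥(zpowers x')).injective
    rw [map_mul, map_mul, mul_comm]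
  have hfc : (f.comp (W : Subgroup ↥M1).subtype) ⟨c2, hW (mem_zpowers c2)⟩ *
      (f.comp (W : Subgroup ↥M1).subtype) ⟨c2, hW (mem_zpowers c2)⟩ ≠ 1 := by
    intro h1
    rw [← map_mul] at h1
    have h2 : f (c2 * c2) ⟨x', mem_zpowers x'⟩ = ⟨x', mem_zpowers x'⟩ := by
      have h3 : f (c2 * c2) = 1 := h1
      rw [h3]; rfl
    have h3 : (c ^ m * c ^ m) * x * (c ^ m * c ^ m)⁻¹ = x := by
      have h4 := congrArg (fun g : ↥(zpowers x') => ((g : ↥M1) : G)) h2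
      exact h4
    rw [← pow_add, hcp] at h3
    have h4 : x ^ (5 ^ (m + m)) = x ^ 1 := by rw [h3, pow_one]
    rw [pow_eq_pow_iff_modEq, h.hyp.hx] at h4
    have h5 : 5 ^ (m + m) ≡ 12 [MOD 13] := by
      obtain ⟨i, rfl⟩ := hmo
      have h6 : 5 ^ (2 * i + 1 + (2 * i + 1)) = (5 ^ 4) ^ i * 25 := by
        rw [← pow_mul, show 25 = 5 ^ 2 by norm_num, ← pow_add]
        congr 1
        ring
      rw [h6]
      have h7 : (5 ^ 4) ^ i ≡ 1 ^ i [MOD 13] := Nat.ModEq.pow i (by decide)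
      rw [one_pow] at h7
      exact (h7.mul_right 25).trans (by decide)
    exact absurd (h5.symm.trans h4) (by decide)
  obtain ⟨u, v, hu, hv, huv, hcuv⟩ := exists_four W.isPGroup' hnc hAc (f.comp (W : Subgroup ↥M1).subtype) hfc
  have hne : ∀ {u : ↥(W : Subgroup ↥M1)}, orderOf u = 2 → (u : ↥M1) * u = 1 ∧ (u : ↥M1) ≠ 1 := by
    intro u hu
    have h1 : orderOf (u : ↥M1) = 2 := by rw [Subgroup.orderOf_coe, hu]
    have h3 := pow_orderOf_eq_one (u : ↥M1)
    rw [h1, pow_two] at h3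
    refine ⟨h3, fun h2 => ?_⟩
    rw [h2, orderOf_one] at h1
    norm_num at h1
  have hnN : ∀ u : ↥M1, u ∈ normalizer (N : Set ↥M1) := fun u => by
    rw [normalizer_eq_top_iff.2 hNn]; exact mem_top u
  obtain ⟨w, y, hww, hw1, hyN, hyo, hwy⟩ := exists_comm_four (p := r) hrp (N := N) (by rw [hNc]; exact hodd)
    (by rw [hNc]; exact hd)
    (hne hu).1 (hne hv).1 (congrArg Subtype.val hcuv) (fun h1 => huv (Subtype.ext h1)) (hnN _) (hnN _)
    (hne hu).2 (hne hv).2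
  have hwo : orderOf (w : G) = 2 := by
    rw [Subgroup.orderOf_coe]
    exact orderOf_eq_prime (by rw [pow_two, hww]) hw1
  refine ⟨y, w, by rw [Subgroup.orderOf_coe, hyo], mem_centralizer_iff.1 (mem_subgroupOf.1 hyN), ?_,
    congrArg Subtype.val hwy⟩
  rcases h.cls w hwo with h3 | h3
  · exact h3
  · exfalso
    refine h.not_norm h3 fun a ha => ?_
    exact (mem_normalizer_iff.1 (mem_inf.1 w.2).1 a).1 ha

end abs

end Cfsg.Agent.H585.EP.Thr
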