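import Cfsg.Agent.H131.T5M13

/-!
# S4929: the configuration `D` of helper131 in the Monster, with `z = KDone.K.z` (helper585)

The proof is helper131's `model_D`.
-/

set_option autoImplicit false
set_option maxRecDepth 100000

namespace Cfsg.Agent.H585.EP.Thr

open Subgroup Cfsg Cfsg.Agent.H794.MonLift Cfsg.Agent.H794.MonThirteen
open Cfsg.Agent.LThreeMB (fr KChart.Cent KChart.pi KChart.chart)
open Cfsg.Agent.MonsterU Cfsg.Agent.MonsterU.Ch
open Cfsg.Agent.MonsterU.Lam2 (L2)
open Cfsg.Agent.MonsterX Cfsg.Agent.MonsterX.MainPack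
open Cfsg.Agent.H131 Cfsg.Agent.H131.T5M13
open Cfsg.Spor (Co1)

/-- **the configuration in the Monster**, `z = KDone.K.z` -/
theorem model_D' : ∃ (x t : ↥InstData.M.G) (Q : Subgroup ↥InstData.M.G), D x KDone.K.z t Q := by
  have hfin := MFive.Row.finite_model
  have hc := MFive.Row.hc
  have h := KChart.chart KDone.lft hc
  have h13 : Nat.Prime 13 := by norm_num
  obtain ⟨x, hx, hxs⟩ := MFive.KPair.exists_order h h13 (by decide) orderOf_s
  have hx13 : x ^ 13 = 1 := by rw [← hx, pow_orderOf_eq_one]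
  have hfr : fr (KChart.pi hc x) = 1 := BpMon.Thirteen.fr_pi KDone.lft hc hx
  have hzx : KDone.K.z * (x : ↥InstData.M.G) = x * KDone.K.z := (mem_centralizer_singleton_iff.1 x.2).symm
  have only : ∀ t : ↥InstData.M.G, t * x = x * t → t * KDone.K.z = KDone.K.z * t → t * t = 1 → t = 1 ∨ t = KDone.K.z := by
    intro t htx htz htt
    by_cases ht : t = 1
    · exact Or.inl ht
    · right
      exact BpMon.Thirteen.only_inv KDone.lft hc (x := x) (t := ⟨t, mem_centralizer_singleton_iff.2 htz⟩) hx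
        (Subtype.ext htt) (fun h1 => ht (congrArg Subtype.val h1)) (Subtype.ext htx.symm)
  obtain ⟨k, hk, hkm⟩ := exists_mem h h13 (by decide) hx13 (V := V) b_mem (by rw [hxs]; exact bs)
  obtain ⟨l, hl, hlm⟩ := exists_mem h h13 (by decide) hx13 (V := V) c_mem (by rw [hxs]; exact cs)
  refine ⟨x, tG KDone.mGroup KDone.mRep, Cfsg.Agent.H794.MonLift.lft (KChart.pi hc) x V, ⟨?_, ?_, ?_, ?_, ?_, ?_, ?_⟩⟩
  · refine ⟨?_, by rw [orderOf_coe, hx], by norm_num, hzx, only, isPGroup_lft h (by decide) hx13 hfr fun v hv => V_sq hv,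
      fun q hq => lft_x hq, fun q hq => lft_z hq, z_mem h, ⟨k, hkm, l, hlm, not_comm h hx13 hfr only hk hl (lft_x hkm)
        (lft_x hlm)⟩, ?_, ?_, ?_⟩
    · have : Fact (Nat.Prime 2) := ⟨Nat.prime_two⟩
      exact orderOf_eq_prime (by rw [pow_two]; exact h.large.z_sq) h.large.z_ne
    · intro h7
      have h1 := h7.trans (BpRankZero.Seven.card_cz h)
      rw [Cfsg.Agent.MonsterU.CoFrameF.card_Co1] at h1
      norm_num at h1
    · rw [Cfsg.Agent.MonsterP.EquivOf.isM_model.2]
      norm_num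
    · rw [Cfsg.Agent.MonsterP.EquivOf.isM_model.2]
      norm_num
  · -- the order of `t`
    have : Fact (Nat.Prime 2) := ⟨Nat.prime_two⟩
    exact orderOf_eq_prime (by rw [pow_two]; exact Subtype.ext KDone.mRep.t₀_sq)
      fun h => KDone.mRep.t₀_ne (congrArg Subtype.val h)
  · -- `z` and `t` are not conjugate
    intro hcj
    obtain ⟨g, hg⟩ := isConj_iff.1 hcj.symm
    exact MThirteen.Row.ta_ne (t := tG KDone.mGroup KDone.mRep) (IsConj.refl _) g hg
  · -- the classes
    intro v hv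
    have hv1 : v ≠ 1 := by
      rintro rfl
      rw [orderOf_one] at hv
      exact absurd hv (by norm_num)
    rcases MFive.Row.two v (by rw [← pow_two, ← hv, pow_orderOf_eq_one]) hv1 with ⟨g, hg⟩ | ⟨g, hg⟩
    · exact Or.inl (isConj_iff.2 ⟨g, hg⟩)
    · exact Or.inr (isConj_iff.2 ⟨g, hg⟩)
  · -- the centralizer of `t`
    have h1 : Nat.card ↥(centralizer ({tG KDone.mGroup KDone.mRep} : Set ↥InstData.M.G)) = _ :=
      card_cent_t Instance.mGroup Instance.mRep Instance.mLat InstanceFinal.mOrbit Instance.mTrans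
    rw [h1]
    norm_num
  · -- six transpositions
    intro a b ha hb hab
    obtain ⟨g, rfl⟩ := isConj_iff.1 ha
    obtain ⟨g', rfl⟩ := isConj_iff.1 hb
    have h1 : orderOf (tG KDone.mGroup KDone.mRep * ((g⁻¹ * g') * tG KDone.mGroup KDone.mRep * (g⁻¹ * g')⁻¹)) ≤ 6 :=
      six Instance.mGroup Instance.mRep Instance.mLat InstanceFinal.mOrbit Instance.mTrans
        InstanceFinal.mExtra.order_le (g⁻¹ * g')
    have h2 := orderOf_conj' g (tG KDone.mGroup KDone.mRep * ((g⁻¹ * g') * tG KDone.mGroup KDone.mRep * (g⁻¹ * g')⁻¹))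
    have h3 : g * (tG KDone.mGroup KDone.mRep * ((g⁻¹ * g') * tG KDone.mGroup KDone.mRep * (g⁻¹ * g')⁻¹)) * g⁻¹ =
        g * tG KDone.mGroup KDone.mRep * g⁻¹ * (g' * tG KDone.mGroup KDone.mRep * g'⁻¹) := by group
    rw [h3, hab] at h2
    omega
  · -- the fifth power
    obtain ⟨c, hc'⟩ := MFive.exists_conj_of_conj h h13 (by decide) (x := x) (y := x ^ 5) (s := T5M13D.n) hx13
      (by rw [← pow_mul, mul_comm, pow_mul, hx13, one_pow]) (by
        rw [map_pow, hxs]
        exact T5M13D.ns)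
    refine ⟨c, ?_⟩
    have h1 := congrArg Subtype.val hc'
    simpa only [Subgroup.coe_mul, InvMemClass.coe_inv, SubmonoidClass.coe_pow] using h1


end Cfsg.Agent.H585.EP.Thr
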