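import Cfsg.Agent.H585.EP.MThrZ
import Cfsg.Agent.H585.EP.MThrA
import Cfsg.Agent.H585.EP.MThrD
import Cfsg.Agent.H585.EP.MCyc
import Cfsg.Agent.H585.EP.Cent
import Cfsg.Agent.H465.PiBSMon
import Cfsg.Agent.H199.AbMon
import Cfsg.Agent.H715.Mon.Exact
import Cfsg.Agent.H715.Mon.Grp
import Cfsg.Agent.OrdDiv.Table
import Cfsg.Agent.H995.CopCoprime

/-!
# S4929: the Monster, `p = 13` (helper585)

`ev_thirteen` : the centralizer of a Sylow 13-subgroup `R` is a 13-group: an element of prime order `r` of `C(R)` which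
commutes with a conjugate of `z` has `13 ^ 3 ∤ |C(y)|`.
-/

set_option autoImplicit false
set_option maxRecDepth 100000

namespace Cfsg.Agent.H585.EP.Thr

open Subgroup Cfsg Cfsg.Agent.H892.EP
open Cfsg.Agent.H609.Inv.Thirteen (RW exists_RW)
open Cfsg.Agent.H131.T5M13 (D exists_syl)
open Cfsg.Agent.BpSpor.MBigModel (zz card_cent_z)
open Cfsg.Agent.H199.NSmMon (Ev)

theorem primes {p : ℕ} (hp : p.Prime) (hd : p ∣ 808017424794512875886459904961710757005754368000000000) :
    p = 2 ∨ p = 3 ∨ p = 5 ∨ p = 7 ∨ p = 11 ∨ p = 13 ∨ p = 17 ∨ p = 19 ∨ p = 23 ∨ p = 29 ∨ p = 31 ∨ p = 41 ∨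
      p = 47 ∨ p = 59 ∨ p = 71 := by
  have e : 808017424794512875886459904961710757005754368000000000 =
      2 ^ 46 * (3 ^ 20 * (5 ^ 9 * (7 ^ 6 * (11 ^ 2 * (13 ^ 3 * (17 * (19 * (23 * (29 * (31 * (41 * (47 * (59 * 71))))))))))))) := by
    norm_num
  rw [e] at hd
  have key : ∀ {a b : ℕ}, p ∣ a * b → p ∣ a ∨ p ∣ b := fun h => (hp.dvd_mul).1 h
  have kp : ∀ {a n : ℕ}, a.Prime → p ∣ a ^ n → p = a := fun ha h =>
    (Nat.prime_dvd_prime_iff_eq hp ha).1 (hp.dvd_of_dvd_pow h)
  have k1 : ∀ {a : ℕ}, a.Prime → p ∣ a → p = a := fun ha h => (Nat.prime_dvd_prime_iff_eq hp ha).1 h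
  rcases key hd with h | hd
  · have := kp (by norm_num) h; tauto
  rcases key hd with h | hd
  · have := kp (by norm_num) h; tauto
  rcases key hd with h | hd
  · have := kp (by norm_num) h; tauto
  rcases key hd with h | hd
  · have := kp (by norm_num) h; tauto
  rcases key hd with h | hd
  · have := kp (by norm_num) h; tauto
  rcases key hd with h | hd
  · have := kp (by norm_num) h; tauto
  rcases key hd with h | hd
  · have := k1 (by norm_num) h; tauto
  rcases key hd with h | hd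
  · have := k1 (by norm_num) h; tauto
  rcases key hd with h | hd
  · have := k1 (by norm_num) h; tauto
  rcases key hd with h | hd
  · have := k1 (by norm_num) h; tauto
  rcases key hd with h | hd
  · have := k1 (by norm_num) h; tauto
  rcases key hd with h | hd
  · have := k1 (by norm_num) h; tauto
  rcases key hd with h | hd
  · have := k1 (by norm_num) h; tauto
  rcases key hd with h | hd
  · have := k1 (by norm_num) h; tauto
  have := k1 (by norm_num) hd; tauto

theorem base (hK : Cfsg.Agent.H995.CopEngine.AllKnown.{0}) : Cfsg.Agent.H940.Eng.Base :=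
  ⟨OrdDiv.table, fun S _ _ _ => hK S⟩

/-- an element of prime order `r ≠ 2, 13` commuting with a conjugate of `z` -/
theorem not_cube (hK : Cfsg.Agent.H995.CopEngine.AllKnown.{0}) {y : MG} (hyo : (orderOf y).Prime)
    (h2 : orderOf y ≠ 2) (h13 : orderOf y ≠ 13) (he : Ev y) : ¬ 13 ^ 3 ∣ Nat.card ↥(centralizer ({y} : Set MG)) := by
  have hz : orderOf y ∣ 2 ^ 25 * 4157776806543360000 := by
    obtain ⟨g, hg⟩ := he
    rw [← card_cent_z, ← Cfsg.Agent.BpSpor.card_cent_of_conj (c := g) (u := zz) (v := g * zz * g⁻¹) rfl,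
      ← Subgroup.orderOf_mk y (mem_centralizer_singleton_iff.2 hg.symm)]
    exact orderOf_dvd_natCard _
  have hd : orderOf y ∣ 808017424794512875886459904961710757005754368000000000 := by
    rw [← card_MG]
    exact orderOf_dvd_natCard y
  have h1 : ¬ 13 ∣ Nat.card ↥(centralizer ({y} : Set MG)) → ¬ 13 ^ 3 ∣ Nat.card ↥(centralizer ({y} : Set MG)) :=
    fun h h' => h ((dvd_pow_self 13 (by norm_num)).trans h')
  rcases primes hyo hd with h | h | h | h | h | h | h | h | h | h | h | h | h | h | h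
  · exact absurd h h2
  · exact three h he
  · rcases H199.AbMon.five' h he with h3 | h3
    · rw [h3]
      norm_num
    · exact h1 h3.2.2
  · exact h1 (H465.SporB.Mon.seven_thirteen h he)
  · rw [H199.AbMon.eleven h he]
    norm_num
  · exact absurd h h13
  · rw [h] at hz; norm_num at hz
  · rw [h] at hz; norm_num at hz
  · have h3 := H715.Mon.Exact.card23 (H715.Mon.Grp.sThree (base hK)) (y := y) h
    refine h1 fun h4 => ?_
    have h5 : 13 ∣ 24 * 23 := h4.trans (dvd_of_eq h3)
    norm_num at h5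
  · rw [h] at hz; norm_num at hz
  · rw [h] at hz; norm_num at hz
  · rw [h] at hz; norm_num at hz
  · rw [h] at hz; norm_num at hz
  · rw [h] at hz; norm_num at hz
  · rw [h] at hz; norm_num at hz

/-- **The Monster, `p = 13`.** -/
theorem ev_thirteen (hK : Cfsg.Agent.H995.CopEngine.AllKnown.{0}) : EvAt 13 MG := by
  have h13 : Fact (Nat.Prime 13) := ⟨by norm_num⟩
  obtain ⟨x, t, Q, h⟩ := model_D'
  obtain ⟨R, W, hr⟩ := exists_RW h
  obtain ⟨P, hP⟩ := exists_syl hr.card h.hyp.h4
  refine evAt_of_sylow P (fun y hy hyo hyp => ?_) deg_b (by norm_num) (by norm_num)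
  rw [hP] at hy
  have h2 : orderOf y ≠ 2 := fun h2 => hr.no_cent h h2 fun r hrR => (hy r hrR).symm
  have hd : orderOf y ∣ Nat.card ↥(centralizer (R : Set MG)) := by
    rw [← Subgroup.orderOf_mk y (mem_centralizer_iff.2 hy)]
    exact orderOf_dvd_natCard _
  obtain ⟨y', w, hy'o, hy'R, hzw, hwy⟩ := exists_ev h hr hyo hd
  obtain ⟨g, rfl⟩ := isConj_iff.1 hzw
  refine not_cube hK (y := y') (by rw [hy'o]; exact hyo) (by rw [hy'o]; exact h2) (by rw [hy'o]; exact hyp) ⟨g, hwy⟩ ?_
  rw [← hr.card]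
  exact Subgroup.card_dvd_of_le fun a ha => mem_centralizer_singleton_iff.2 (hy'R a ha)

end Cfsg.Agent.H585.EP.Thr
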