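import Cfsg.Agent.H585.EP.Cent
import Cfsg.Agent.H585.EP.MCyc
import Cfsg.Agent.H573.Spor.MThree
import Cfsg.Agent.H491.PB.Th

/-!
# S4929: the Monster, `p = 3` (helper585)

* `evAt_of_XX` : `evAt_of_cent` for `C(x) / ⟨x⟩`;
* `ev_three` : `x` of order 3 with `C(x) / ⟨x⟩ ≅ Th`.
-/

set_option autoImplicit false
set_option maxRecDepth 100000

open Cfsg Cfsg.Agent.Characters.Core Cfsg.Agent.H892.EP Subgroup
open Cfsg.Agent.LThreeMB (XX Zx self)

namespace Cfsg.Agent.H585.EP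

universe u v

theorem evAt_of_XX {G : Type u} [Group G] [Finite G] {p : ℕ} [hp : Fact p.Prime] {x : G}
    (hx : orderOf x = p) {Y : Type v} [Group Y] [Finite Y] (e : XX x ≃* Y) (hY : SylC p Y)
    {d : ℕ} (hd : ∃ χ : G → ℂ, IsIrrCharacter G χ ∧ χ 1 = d) (h2 : 2 ∣ d) (hpd : ¬ p ∣ d) : EvAt p G := by
  refine evAt_of_cent ⟨1, by rw [pow_one, ← hx, pow_orderOf_eq_one]⟩
    (e.toMonoidHom.comp (QuotientGroup.mk' (Zx x))) (e.surjective.comp (QuotientGroup.mk'_surjective _)) ?_ hY hd h2 hpd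
  intro g hg
  have h1 : e (QuotientGroup.mk' (Zx x) g) = 1 := hg
  rw [map_eq_one_iff e e.injective] at h1
  have h3 : g ∈ Zx x := (QuotientGroup.eq_one_iff g).1 h1
  obtain ⟨i, hi⟩ := mem_zpowers_iff.1 h3
  refine ⟨1, ?_⟩
  have h2 : (self x) ^ p = 1 := Subtype.ext (by
    show x ^ p = 1
    rw [← hx, pow_orderOf_eq_one])
  rw [← hi, pow_one, ← zpow_natCast, ← zpow_mul, mul_comm, zpow_mul, zpow_natCast, h2, one_zpow]

open Cfsg.Agent.H491.PB.Th Cfsg.Agent.H502.TO Cfsg.Agent.H133.PB Cfsg.Agent.H709.PB in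
/-- **The Monster, `p = 3`.** -/
theorem ev_three : EvAt 3 MG := by
  have : Fact (Nat.Prime 3) := ⟨Nat.prime_three⟩
  obtain ⟨x, hx, ⟨e⟩⟩ := H573.Spor.Monster.exists_th
  have := fin_th
  refine evAt_of_XX hx e (SylC.of_card (n := 10) (by rw [card_th]; norm_num) ?_) deg_a (by norm_num) (by norm_num)
  intro y hy hne
  refine cent_dvd hy ?_ ?_ ?_ ?_ ?_ ?_ ?_
  · intro _; norm_num
  · intro h; exact absurd h hne
  · intro _; norm_num
  · intro _; norm_num
  · intro h hd; exact no_38 (Or.inl rfl) h (Dvd.dvd.trans (by norm_num) hd)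
  · intro _; norm_num
  · intro _; norm_num

end Cfsg.Agent.H585.EP
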