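import Cfsg.Agent.H585.EP.MCyc
import Cfsg.Agent.H585.EP.MThree
import Cfsg.Agent.H585.EP.MSeven
import Cfsg.Agent.H585.EP.MBig
import Cfsg.Agent.H585.EP.MThr

/-!
# S4929: the Monster, `p = 3, 5, 7, 11, 13, 17, 19, 29, 41, 59, 71` (helper585)
-/

set_option autoImplicit false

open Cfsg Cfsg.Agent.H892.EP

namespace Cfsg.Agent.H585.EP

/-- **The row of the Monster**, all odd primes but 23, 31, 47. -/
theorem evM_easy (hK : Cfsg.Agent.H995.CopEngine.AllKnown.{0}) (K : Type) [Group K] [Finite K] [IsSimpleGroup K]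
    (h : Spor.IsoM K) {p : ℕ} (hp : p = 3 ∨ p = 5 ∨ p = 7 ∨ p = 11 ∨ p = 13 ∨ p = 17 ∨ p = 19 ∨ p = 29 ∨ p = 41 ∨
      p = 59 ∨ p = 71) : EvAt p K := by
  have hF : Fact p.Prime := ⟨by rcases hp with rfl | rfl | rfl | rfl | rfl | rfl | rfl | rfl | rfl | rfl | rfl <;> norm_num⟩
  refine evAt_of_model ?_ h
  rcases hp with rfl | rfl | rfl | rfl | rfl | rfl | rfl | rfl | rfl | rfl | rfl
  · exact ev_three
  · exact ev_five
  · exact ev_seven
  · exact ev_eleven
  · exact Thr.ev_thirteen hK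
  · exact ev_cyc (by norm_num)
  · exact ev_cyc (by norm_num)
  · exact ev_cyc (by norm_num)
  · exact ev_cyc (by norm_num)
  · exact ev_59 hK
  · exact ev_71 hK

end Cfsg.Agent.H585.EP
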