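import Cfsg.Agent.H585.EP.Rad
import Cfsg.Agent.H199.NSmMon
import Cfsg.Agent.BpMon.Thirteen

/-!
# S4929: `13 ^ 3` does not divide `|C(y)|`, `y` of order 3 of the Monster (helper585)
-/

set_option autoImplicit false
set_option maxRecDepth 100000

namespace Cfsg.Agent.H585.EP.Thr

open Cfsg Cfsg.Agent.MonsterX Cfsg.Agent.MonsterX.InstData Cfsg.Agent.MonsterX.MainPack Cfsg.Agent.MonsterU
open Cfsg.Agent.MonsterP Cfsg.Agent.MonsterN Cfsg.Agent.LThreeMB
open Cfsg.Agent.MonsterX.MainBasic Cfsg.Agent.MonsterX.MainSimple Cfsg.Agent.MonsterX.Model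
open Cfsg.Agent.MonsterU.Lam2 Cfsg.Agent.MonsterU.TwoCls
open Cfsg.Agent.BpSpor.MBigModel
open Cfsg.Agent.H199.NSmMon
open Cfsg.Spor (Co1)
open Subgroup (centralizer zpowers mem_centralizer_singleton_iff)

theorem not_fourth : ¬ 13 ^ 4 ∣ Nat.card MG := by
  rw [card_M]
  norm_num

/-- **fixed rank 0, order 3** -/
theorem three_zero {x : centralizer ({zz} : Set MG)} (hx : orderOf x = 3) (hfr : fr (pi x) = 1) :
    ¬ 13 ^ 3 ∣ Nat.card ↥(centralizer ({(x : MG)} : Set MG)) := by
  have := finite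
  have hp : Fact (Nat.Prime 3) := ⟨Nat.prime_three⟩
  have hp13 : Fact (Nat.Prime 13) := ⟨by norm_num⟩
  have hp11 : Fact (Nat.Prime 11) := ⟨by norm_num⟩
  have htr := KPair.trNe KDone.lft LThreeB.Row.cent (LThreeMBTr.traceNe KDone.lft LThreeMBTr.TensK.tens)
  have hsuz := CoOneFin.coOne.suz (pi x) (orderOf_pi chart hx) hfr
  obtain ⟨e⟩ := hsuz
  have hs : IsSimpleGroup (XX (pi x)) := (MulEquiv.isSimpleGroup_congr e).2 Cfsg.Agent.S1694.result.1
  have hc : Nat.card (XX (pi x)) = 448345497600 := by rw [Nat.card_congr e.toEquiv, Cfsg.Agent.S1694.result.2]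
  have hns : ¬ Group.IsSolvable (XX (pi x)) := not_solvable hs hc (by norm_num) (by norm_num)
  obtain ⟨N, hN⟩ := BpSpor.M5.exists_rad chart (by norm_num) hx hfr (fun d hd hc => isolated chart htr hx hfr d hd hc)
    hs (by rw [hc]; decide)
  obtain ⟨k, hk, hkk⟩ := PreUniq.MonRow.exists_kk Nat.prime_three (by decide) PreUniq.MonThreeRow.neg_three x hx hfr
  have hkk' : k * k = zz := hkk
  have hkz : k * zz = zz * k := by rw [← hkk', mul_assoc]
  refine not_cube_of_rad hN hns (by norm_num) (k := ⟨⟨k, mem_centralizer_singleton_iff.2 hk⟩,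
    mem_centralizer_singleton_iff.2 (Subtype.ext hkz)⟩) (Subtype.ext hkk') (r := 13) (q := 11) (by norm_num) (by norm_num)
    (by norm_num) (by rw [hc]; norm_num) ?_ (by rw [hc]; norm_num) ?_ ?_
  · intro i h1 h3
    interval_cases i <;> norm_num
  · exact fun h => not_fourth (h.trans (Subgroup.card_subgroup_dvd_card _))
  · intro h
    have h1 := h.trans (BpMon.Thirteen.card_zD_dvd KDone.lft LThreeB.Row.cent x)
    rw [Cfsg.Agent.MonsterU.CoFrameF.card_Co1] at h1
    norm_num at h1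

/-- **The elements of order 3 commuting with `z`.** -/
theorem three_in {x : centralizer ({zz} : Set MG)} (hx : orderOf x = 3) :
    ¬ 13 ^ 3 ∣ Nat.card ↥(centralizer ({(x : MG)} : Set MG)) := by
  have := finite
  have := simple
  have I := CoOneFin.coOne
  have htr := KPair.trNe KDone.lft LThreeB.Row.cent (LThreeMBTr.traceNe KDone.lft LThreeMBTr.TensK.tens)
  have hxo : orderOf (x : MG) = 3 := by rw [Subgroup.orderOf_coe, hx]
  rcases I.ranks (pi x) (orderOf_pi chart hx) with h1 | h1 | h1 | h1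
  · exact three_zero hx h1
  · obtain ⟨x₀, u, g, hx₀, hfr₀, huz, hux, hne, hg⟩ :=
      KPair.hasPair KDone.lft LThreeB.Row.cent PreUniq.MonRow.second COct.octPair
    obtain ⟨k, hk⟩ := conj_six chart htr I.ranks I.six
      (fun x hx h2 => ⟨(good_of_inputs chart I hx h2 : Good.{0} _).simple, (good_of_inputs chart I hx h2 : Good.{0} _).nc⟩)
      hx₀ hfr₀ huz hux hne hg hx h1
    rw [← BpSpor.card_cent_of_conj hk]
    exact three_zero hx₀ hfr₀
  · obtain ⟨e⟩ := LThreeB.isoTh_of_inputs chart I hx h1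
    rw [card_XX, hxo, Nat.card_congr e.toEquiv, Cfsg.Agent.S1700.result.2]
    norm_num
  · obtain ⟨e⟩ := LThreeB.isoFi_of_inputs chart I hx h1
    rw [card_XX, hxo, Nat.card_congr e.toEquiv, Cfsg.Agent.S1698.result.2]
    norm_num

/-- **The elements of order 3 commuting with a conjugate of `z`.** -/
theorem three {x : MG} (hx : orderOf x = 3) (he : Ev x) : ¬ 13 ^ 3 ∣ Nat.card ↥(centralizer ({x} : Set MG)) := by
  obtain ⟨x', hx', hc⟩ := exists_in hx he
  rw [← hc]
  exact three_in hx'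

end Cfsg.Agent.H585.EP.Thr
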