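import Cfsg.Agent.BpSpor.MFiveAbs
import Cfsg.Agent.MThirteen.FiveRow

/-!
# S4929: `r ^ 3` does not divide `|D|` in the situation `Rad` (helper585)
-/

set_option autoImplicit false
set_option linter.unusedSectionVars false

namespace Cfsg.Agent.H585.EP

open Subgroup Cfsg

universe u v

/-- **In the situation `Rad`.** -/
theorem not_cube_of_rad {D : Type u} [Group D] [Finite D] {p : ℕ} [hp : Fact p.Prime] {z x : D} {N : Subgroup D}
    {A : Type v} [Group A] [hA : IsSimpleGroup A] {f : ↥(centralizer ({z} : Set D)) →* A}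
    (h : Cfsg.Agent.BpSpor.M5.Rad p z x N f) (hAc : ¬ Group.IsSolvable A) (hp2 : p ≠ 2)
    {k : ↥(centralizer ({z} : Set D))} (hk : (k : D) * k = z) {r q : ℕ} [hr : Fact r.Prime] [hq : Fact q.Prime]
    (hrp : r ≠ p) (hr2 : r ≠ 2) (hqr : q ≠ r) (hqA : q ∣ Nat.card A) (hdiv : ∀ i, 1 ≤ i → i ≤ 3 → ¬ q ∣ r ^ i - 1)
    (hrA : ¬ r ^ 2 ∣ Nat.card A) (hD : ¬ r ^ 4 ∣ Nat.card D) (hz : ¬ r ^ 2 ∣ Nat.card ↥(centralizer ({z} : Set D))) :
    ¬ r ^ 3 ∣ Nat.card D := by
  intro hd
  have hNn := h.nN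
  obtain ⟨m, hm, hc⟩ := h.card_N_mul hAc
  have hAf : Finite A := Finite.of_surjective f h.surj
  -- `r ^ 2` divides `|N|`
  have hrN : r ^ 2 ∣ Nat.card ↥N := by
    by_contra h1
    have hN0 : Nat.card ↥N ≠ 0 := Nat.card_pos.ne'
    have hA0 : Nat.card A ≠ 0 := Nat.card_pos.ne'
    have hm0 : m ≠ 0 := by
      rintro rfl
      norm_num at hm
    rw [hc] at hd
    rw [hr.out.pow_dvd_iff_le_factorization (mul_ne_zero hN0 (mul_ne_zero hA0 hm0)),
      Nat.factorization_mul hN0 (mul_ne_zero hA0 hm0), Nat.factorization_mul hA0 hm0] at hd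
    rw [hr.out.pow_dvd_iff_le_factorization hN0] at h1
    rw [hr.out.pow_dvd_iff_le_factorization hA0] at hrA
    have h2 : m.factorization r = 0 := Nat.factorization_eq_zero_of_not_dvd fun h3 =>
      hr2 ((Nat.prime_dvd_prime_iff_eq hr.out Nat.prime_two).1 (h3.trans hm))
    simp only [Finsupp.coe_add, Pi.add_apply, h2] at hd
    omega
  have hnil : Group.IsNilpotent ↥N := h.isNilpotent hp2
  obtain ⟨P⟩ : Nonempty (Sylow r ↥N) := inferInstance
  have hPn : (P : Subgroup ↥N).Normal := inferInstance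
  have hPc : (P : Subgroup ↥N).Characteristic := Sylow.characteristic_of_normal P hPn
  set S : Subgroup D := (P : Subgroup ↥N).map N.subtype with hSdef
  have hSn : S.Normal := ConjAct.normal_of_characteristic_of_normal
  have hSN : S ≤ N := map_subtype_le _
  have hSp : IsPGroup r ↥S := P.isPGroup'.map _
  have hSr : r ^ 2 ∣ Nat.card ↥S := by
    rw [hSdef, card_map_of_injective N.subtype_injective]
    exact P.pow_dvd_card_of_pow_dvd_card hrN
  have hS3 : Nat.card ↥S ∣ r ^ 3 := by
    obtain ⟨j, hj⟩ := IsPGroup.iff_card.1 hSp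
    rw [hj]
    refine pow_dvd_pow r ?_
    by_contra hcon
    apply hD
    have h2 : Nat.card ↥S ∣ Nat.card D := card_subgroup_dvd_card S
    rw [hj] at h2
    exact (pow_dvd_pow r (by omega)).trans h2
  -- `N` centralizes `S`
  have hNC : ∀ n ∈ N, ∀ m ∈ S, n * m = m * n := by
    intro n hn m hm
    obtain ⟨i, hi⟩ := h.comm hp2 hn (hSN hm)
    obtain ⟨j, hj⟩ := hSp ⟨m, hm⟩
    have hmr : m ^ r ^ j = 1 := congrArg Subtype.val hj
    have h1 : (n * m * n⁻¹) ^ r ^ j = 1 := by rw [conj_pow, hmr, mul_one, mul_inv_cancel]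
    rw [hi] at h1
    have hmx : Commute m (x ^ i) := h.xzc i m
    rw [hmx.mul_pow, hmr, one_mul] at h1
    have h2 : (x ^ i) ^ p = 1 := by
      rw [← zpow_natCast, ← zpow_mul, mul_comm, zpow_mul, zpow_natCast, ← h.ox, pow_orderOf_eq_one, one_zpow]
    have h3 : orderOf (x ^ i) ∣ Nat.gcd (r ^ j) p :=
      Nat.dvd_gcd (orderOf_dvd_of_pow_eq_one h1) (orderOf_dvd_of_pow_eq_one h2)
    rw [Nat.Coprime.pow_left j ((Nat.coprime_primes hr.out hp.out).2 hrp), Nat.dvd_one, orderOf_eq_one_iff] at h3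
    rw [h3, mul_one, mul_inv_eq_iff_eq_mul] at hi
    exact hi
  set C : Subgroup D := centralizer (S : Set D) with hC
  have hCn : C.Normal := by rw [hC]; infer_instance
  -- an element of `C(z)` centralizing `S`
  obtain ⟨u, e, hu, hfu⟩ := MThirteen.exists_q_lift f h.surj hqA
  have huC : (u : D) ∈ C := by
    rw [hC, mem_centralizer_iff]
    intro s hs
    have h1 := MThirteen.acts_trivially_pow hqr hdiv hSp hS3 (u := (u : D)) (f := e)
      (by rw [← SubmonoidClass.coe_pow, hu, OneMemClass.coe_one]) (fun g hg => hSn.conj_mem g hg _) s hs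
    exact (mul_inv_eq_iff_eq_mul.1 h1).symm
  have hCs : ¬ Group.IsSolvable ↥C := by
    intro hs
    have h1 : ((C.subgroupOf (centralizer ({z} : Set D))).map f).Normal :=
      (inferInstance : (C.subgroupOf (centralizer ({z} : Set D))).Normal).map f h.surj
    rcases h1.eq_bot_or_eq_top with h2 | h2
    · apply hfu
      have h3 : f u ∈ (C.subgroupOf (centralizer ({z} : Set D))).map f := ⟨u, mem_subgroupOf.2 huC, rfl⟩
      rw [h2] at h3
      exact mem_bot.1 h3
    · apply hAc
      have h3 : Group.IsSolvable ↥(C.subgroupOf (centralizer ({z} : Set D))) :=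
        Group.isSolvable_of_isSolvable_injective
          (f := ((centralizer ({z} : Set D)).subtype.subgroupComap C : _ →* ↥C)) (by
            intro a b hab
            exact Subtype.ext (Subtype.ext (congrArg (fun c : ↥C => (c : D)) hab)))
      have h4 : Group.IsSolvable ↥((C.subgroupOf (centralizer ({z} : Set D))).map f) :=
        Group.isSolvable_of_surjective (f.subgroupMap_surjective _)
      rw [h2] at h4
      exact Group.isSolvable_of_surjective (f := (Subgroup.topEquiv : (⊤ : Subgroup A) ≃* A).toMonoidHom)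
        (Subgroup.topEquiv : (⊤ : Subgroup A) ≃* A).surjective
  obtain ⟨c, hcC, n, hn, hzc⟩ := h.z_mem_sup hp2 hk C hCs
  apply hz
  refine hSr.trans (card_dvd_of_le fun s hs => ?_)
  rw [mem_centralizer_singleton_iff]
  have h1 : s * c = c * s := mem_centralizer_iff.1 hcC s hs
  calc s * z = s * c * n := by rw [hzc]; group
    _ = c * (s * n) := by rw [h1, mul_assoc]
    _ = c * (n * s) := by rw [hNC n hn s hs]
    _ = z * s := by rw [hzc]; group

end Cfsg.Agent.H585.EP
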